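import Cfsg.Agent.H19.Vanishing
import Cfsg.Agent.H43.Constituents
import Cfsg.Agent.H89.ClassSizeCover
import Cfsg.Agent.H42.Central
import Cfsg.Agent.S0854
import Cfsg.Agent.S0191
import Cfsg.Agent.S4558
import Cfsg.Agent.S4456

/-!
# Groups all of whose vanishing elements are `p`-elements: the tools
-/

set_option autoImplicit false

open scoped ComplexConjugate

namespace Cfsg.Agent.H33.VanishPPower

universe u

variable {G : Type u} [Group G] [Finite G]

/-- A central element is never a vanishing element. -/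
theorem not_vanishes_of_mem_center {z : G} (hz : z ∈ Subgroup.center G) : ¬ H19.Vanishes z := by
  rintro ⟨χ, hχ⟩
  have h := H42.irr_central_mul χ hz z⁻¹
  rw [mul_inv_cancel, hχ, zero_div, zero_mul] at h
  exact H26.irr_one_ne_zero χ h

/-- In a `p`-group every noncentral element is a vanishing element. -/
theorem vanishes_of_not_mem_center {p : ℕ} [hp : Fact p.Prime] {Q : Type u} [Group Q] [Finite Q]
    (hQ : IsPGroup p Q) {y : Q} (hy : y ∉ Subgroup.center Q) : H19.Vanishes y := by
  induction hn : Nat.card Q using Nat.strong_induction_on generalizing Q with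
  | _ n ih =>
    subst hn
    haveI : Nontrivial Q := ⟨⟨y, 1, fun h => hy (h ▸ Subgroup.one_mem _)⟩⟩
    haveI := hQ.center_nontrivial
    set Z := Subgroup.center Q with hZ
    by_cases hyz : QuotientGroup.mk' Z y ∈ Subgroup.center (Q ⧸ Z)
    · obtain ⟨q, hq⟩ : ∃ q, q * y ≠ y * q := by
        by_contra h
        push Not at h
        exact hy (Subgroup.mem_center_iff.2 h)
      set z := y⁻¹ * (q * y * q⁻¹) with hz
      have hzZ : z ∈ Z := by
        rw [← QuotientGroup.eq_one_iff, hz, ← QuotientGroup.mk'_apply]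
        simp only [map_mul, map_inv]
        rw [Subgroup.mem_center_iff.1 hyz, mul_inv_cancel_right, inv_mul_cancel]
      have hz1 : z ≠ 1 := by
        intro h
        refine hq ?_
        rw [hz, inv_mul_eq_one] at h
        conv_rhs => rw [h]
        group
      haveI : (Subgroup.zpowers z).Normal := by
        refine ⟨fun x hx g => ?_⟩
        have hxZ : x ∈ Z := (Subgroup.zpowers_le.2 hzZ) hx
        rw [Subgroup.mem_center_iff.1 hxZ g, mul_inv_cancel_right]
        exact hx
      refine H19.vanishes_of_conj_eq_mul hz1 (Subgroup.mem_center_iff.1 hzZ q) ?_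
      rw [hz]; group
    · refine H19.Vanishes.of_mk (N := Z) (ih _ ?_ (hQ.to_quotient Z) hyz rfl)
      have h1 := Subgroup.card_eq_card_quotient_mul_card_subgroup Z
      have h2 : 1 < Nat.card Z := Finite.one_lt_card
      have h3 : 0 < Nat.card (Q ⧸ Z) := Nat.card_pos
      rw [h1]
      exact lt_mul_of_one_lt_right h3 h2

/-- An irreducible character above a character of a normal subgroup is zero at the elements none
of whose conjugates fixes the latter. -/
theorem vanishes_of_not_mem_inertia (K : Subgroup G) [hK : K.Normal] (θ : Cfsg.IrrCharacter K)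
    (T : Subgroup G)
    (hT : ∀ g : G, g ∈ T ↔ ∀ n : K, θ.1 ⟨g * n * g⁻¹, hK.conj_mem (n : G) n.2 g⟩ = θ.1 n)
    (hKT : K ≤ T) {g : G} (hg : ∀ x : G, x⁻¹ * g * x ∉ T) : H19.Vanishes g := by
  classical
  haveI := Fintype.ofFinite G
  haveI : Fintype K := Fintype.ofFinite _
  haveI : Fintype T := Fintype.ofFinite _
  obtain ⟨χ, hχ⟩ := H43.exists_above K θ
  have hcon : Cfsg.classInner (fun n : K => χ.1 n) θ.1 ≠ 0 := by
    rw [H43.classInner_eq_mult (H43.isCharacter_restr K χ) θ]
    exact Nat.cast_ne_zero.2 hχ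
  obtain ⟨ψ, -, hind, -⟩ := Cfsg.Agent.S0854.result K θ.1 θ.2 T hT hKT χ.1 χ.2 hcon
  refine ⟨χ, ?_⟩
  rw [← hind]
  simp only [Cfsg.indFun, Cfsg.extendByZero]
  rw [Finset.sum_eq_zero fun x _ => ?_, mul_zero]
  rw [Function.extend_apply']
  · rfl
  rintro ⟨t, ht⟩
  exact hg x (ht ▸ t.2)

/-- An element of `p`-power order normalising the `p'`-subgroup `K` and fixing all its irreducible
characters centralises it. -/
theorem centralizes_of_fixes_irr {p : ℕ} [hp : Fact p.Prime] (K : Subgroup G) [hK : K.Normal]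
    (hKp : (Nat.card K).Coprime p) {u : G} (hu : ∃ m, orderOf u = p ^ m)
    (hfix : ∀ (θ : Cfsg.IrrCharacter K) (n : K),
      θ.1 ⟨u * n * u⁻¹, hK.conj_mem (n : G) n.2 u⟩ = θ.1 n) :
    ∀ k ∈ K, k * u = u * k := by
  classical
  set C : Subgroup K := (Subgroup.centralizer ({u} : Set G)).subgroupOf K with hC
  have hcon : ∀ n : K, IsConj (⟨u * n * u⁻¹, hK.conj_mem (n : G) n.2 u⟩ : K) n := fun n =>
    (H26.isConj_iff_forall_irr _ _).2 fun θ => hfix θ n
  have hU : IsPGroup p (Subgroup.zpowers u) := by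
    obtain ⟨m, hm⟩ := hu
    exact IsPGroup.of_card (n := m) (by rw [Nat.card_zpowers, hm])
  have htop : C = ⊤ := H89.eq_top_of_conjCover fun h => by
    -- the class of `h` in `K` is stable under `u`
    let X : Type u := {x : G // ∃ k : K, ((k * h * k⁻¹ : K) : G) = x}
    have hstep : ∀ x : G, (∃ k : K, ((k * h * k⁻¹ : K) : G) = x) →
        ∃ k : K, ((k * h * k⁻¹ : K) : G) = u * x * u⁻¹ := by
      rintro _ ⟨k, rfl⟩
      obtain ⟨c, hc⟩ := isConj_iff.1 (hcon (k * h * k⁻¹))
      refine ⟨c⁻¹ * k, ?_⟩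
      have h1 : (c⁻¹ * k) * h * (c⁻¹ * k)⁻¹ =
          (⟨u * ((k * h * k⁻¹ : K) : G) * u⁻¹, hK.conj_mem _ (k * h * k⁻¹).2 u⟩ : K) := by
        calc (c⁻¹ * k) * h * (c⁻¹ * k)⁻¹ = c⁻¹ * (k * h * k⁻¹) * c := by group
          _ = _ := by nth_rw 1 [← hc]; group
      exact congrArg Subtype.val h1
    have hall : ∀ (v : Subgroup.zpowers u) (x : G), (∃ k : K, ((k * h * k⁻¹ : K) : G) = x) →
        ∃ k : K, ((k * h * k⁻¹ : K) : G) = (v : G) * x * (v : G)⁻¹ := by
      rintro ⟨v, hv⟩ x hx
      obtain ⟨i, rfl⟩ := (isOfFinOrder_of_finite u).mem_powers_iff_mem_zpowers.2 hv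
      show ∃ k : K, ((k * h * k⁻¹ : K) : G) = u ^ i * x * (u ^ i)⁻¹
      induction i with
      | zero => simpa using hx
      | succ i ih =>
        obtain ⟨k, hk⟩ := hstep _ (ih (pow_mem (Subgroup.mem_zpowers u) i))
        refine ⟨k, hk.trans ?_⟩
        rw [pow_succ']; group
    letI : MulAction (Subgroup.zpowers u) X :=
      { smul := fun v x => ⟨(v : G) * x.1 * (v : G)⁻¹, hall v x.1 x.2⟩
        one_smul := fun x => Subtype.ext (show (1 : G) * x.1 * (1 : G)⁻¹ = x.1 by group)
        mul_smul := fun v w x => Subtype.ext (show ((v : G) * (w : G)) * x.1 * ((v : G) * (w : G))⁻¹ =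
          (v : G) * ((w : G) * x.1 * (w : G)⁻¹) * (v : G)⁻¹ by group) }
    have hcard : Nat.card X ∣ Nat.card K := by
      have e : X ≃ MulAction.orbit (ConjAct K) h :=
        { toFun := fun x => ⟨⟨x.1, by obtain ⟨k, hk⟩ := x.2; exact hk ▸ (k * h * k⁻¹).2⟩, by
            obtain ⟨k, hk⟩ := x.2
            exact ⟨ConjAct.toConjAct k, Subtype.ext hk⟩⟩
          invFun := fun y => ⟨(y.1 : G), by
            obtain ⟨k, hk⟩ := y.2
            exact ⟨ConjAct.ofConjAct k, congrArg Subtype.val hk⟩⟩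
          left_inv := fun x => rfl
          right_inv := fun y => rfl }
      rw [Nat.card_congr e, Nat.card_coe_set_eq, ← MulAction.index_stabilizer]
      exact (Subgroup.index_dvd_card _).trans (Nat.card_congr (ConjAct.ofConjAct (G := K)).toEquiv).dvd
    obtain ⟨⟨x, k, rfl⟩, hx⟩ := hU.nonempty_fixed_point_of_prime_not_dvd_card X fun hd =>
      hp.out.coprime_iff_not_dvd.1 hKp.symm (hd.trans hcard)
    have hxu : u * ((k * h * k⁻¹ : K) : G) * u⁻¹ = ((k * h * k⁻¹ : K) : G) :=
      congrArg Subtype.val (hx ⟨u, Subgroup.mem_zpowers u⟩)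
    refine ⟨k⁻¹, ?_⟩
    rw [Subgroup.mem_pointwise_smul_iff_inv_smul_mem, hC, Subgroup.mem_subgroupOf,
      Subgroup.mem_centralizer_singleton_iff]
    have h2 : ((MulAut.conj k⁻¹)⁻¹ • h : K) = k * h * k⁻¹ := by simp [MulAut.smul_def]
    rw [h2]
    exact (mul_inv_eq_iff_eq_mul.1 hxu).symm
  intro k hk
  have := htop.ge (Subgroup.mem_top (⟨k, hk⟩ : K))
  rw [hC, Subgroup.mem_subgroupOf, Subgroup.mem_centralizer_singleton_iff] at this
  exact this

end Cfsg.Agent.H33.VanishPPower
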