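import Cfsg.Agent.H33.VanishPPower.Basic

/-!
# Groups all of whose vanishing elements are `p`-elements
-/

set_option autoImplicit false

namespace Cfsg.Agent.H33.VanishPPower

universe u

open Subgroup
open scoped Pointwise

variable {G : Type u} [Group G] [Finite G]

theorem main (hna : ¬ IsMulCommutative G) (p : ℕ) [hp : Fact p.Prime]
    (hvan : ∀ g : G, (∃ χ : Cfsg.IrrCharacter G, (χ : G → ℂ) g = 0) →
      ∃ m : ℕ, 1 ≤ m ∧ orderOf g = p ^ m) :
    IsPGroup p G ∨ (center G = Cfsg.pCore p G ∧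
      ∃ H : Subgroup (G ⧸ center G), Cfsg.IsFrobeniusComplement H ∧ IsPGroup p H) := by
  classical
  -- normal `p`-complement
  have hdeg : ∀ χ : Cfsg.IrrCharacter G, Cfsg.charDegree (χ : G → ℂ) ≠ 1 →
      p ∣ Cfsg.charDegree (χ : G → ℂ) := by
    intro χ hχ
    obtain ⟨n, ρ, hρ, e⟩ := χ.2
    have := hρ
    have hd : Cfsg.charDegree (χ : G → ℂ) = Module.finrank ℂ (Fin n → ℂ) := by
      rw [Cfsg.charDegree, ← e, ρ.char_one, Complex.natCast_re, Nat.floor_natCast]
    have h1 : 1 < Module.finrank ℂ (Fin n → ℂ) :=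
      lt_of_le_of_ne (H25.finrank_pos_of_isIrreducible ρ) fun h => hχ (hd.trans h.symm)
    obtain ⟨g, hg⟩ := Cfsg.Agent.S0191.result ρ h1
    rw [e] at hg
    obtain ⟨m, -, hm⟩ := hvan g ⟨χ, hg⟩
    exact Cfsg.Agent.S4558.result p χ.1 (H26.irr_isCharacter χ) g ⟨m, hm⟩ hg
  obtain ⟨K, hKn, hKp, k, hKi⟩ := Cfsg.Agent.S4456.result p hp.out hdeg
  have := hKn
  by_cases hK1 : K = ⊥
  · left
    refine IsPGroup.of_card (n := k) ?_
    rw [← hKi, hK1, index_bot]
  right
  obtain ⟨P⟩ := (inferInstance : Nonempty (Sylow p G))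
  have hPK : ∀ x : G, x ∈ (P : Subgroup G) → x ∈ K → x = 1 := by
    intro x hxP hxK
    obtain ⟨m, hm⟩ := IsPGroup.iff_orderOf.1 P.isPGroup' ⟨x, hxP⟩
    rw [Subgroup.orderOf_mk] at hm
    have h1 : orderOf x ∣ Nat.card K := by
      have := orderOf_dvd_natCard (⟨x, hxK⟩ : K)
      rwa [Subgroup.orderOf_mk] at this
    exact orderOf_eq_one_iff.1 (Nat.eq_one_of_dvd_coprimes
      (Nat.Coprime.pow_right m hKp) h1 (hm ▸ dvd_rfl))
  have hgen : K ⊔ (P : Subgroup G) = ⊤ := by
    rw [← index_eq_one]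
    have h1 : (K ⊔ (P : Subgroup G)).index ∣ p ^ k := hKi ▸ index_dvd_of_le le_sup_left
    obtain ⟨j, -, hj⟩ := (Nat.dvd_prime_pow hp.out).1 h1
    rcases Nat.eq_zero_or_pos j with rfl | hj0
    · simpa using hj
    · exact absurd ((hj ▸ dvd_pow_self p hj0.ne').trans
        (index_dvd_of_le (le_sup_right : (P : Subgroup G) ≤ K ⊔ (P : Subgroup G)))) P.not_dvd_index
  have hdec : ∀ x : G, ∃ a ∈ K, ∃ v ∈ (P : Subgroup G), a * v = x := fun x =>
    Subgroup.mem_sup_of_normal_left.1 (hgen.ge (mem_top x))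
  -- a product of commuting `c ∈ K`, `v ∈ P` with `c ≠ 1` does not vanish
  have hnv : ∀ c ∈ K, c ≠ 1 → ∀ v ∈ (P : Subgroup G), c * v = v * c → ¬ H19.Vanishes (c * v) := by
    intro c hcK hc v hvP hcv hvan'
    obtain ⟨m, -, hm⟩ := hvan _ hvan'
    apply hc
    have h1 := pow_orderOf_eq_one (c * v)
    rw [hm, (show Commute c v from hcv).mul_pow] at h1
    have h2 : c ^ p ^ m = (v ^ p ^ m)⁻¹ := eq_inv_of_mul_eq_one_left h1
    have h3 : c ^ p ^ m = 1 := hPK _ (h2 ▸ inv_mem (pow_mem hvP _)) (pow_mem hcK _)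
    have h4 : orderOf c ∣ Nat.card K := by
      have := orderOf_dvd_natCard (⟨c, hcK⟩ : K)
      rwa [Subgroup.orderOf_mk] at this
    exact orderOf_eq_one_iff.1 (Nat.eq_one_of_dvd_coprimes
      (Nat.Coprime.pow_right m hKp) h4 (orderOf_dvd_of_pow_eq_one h3))
  -- an element of `P` with a nontrivial centraliser in `K` centralises `K` and `P`
  have hcentral : ∀ v ∈ (P : Subgroup G), ∀ c ∈ K, c ≠ 1 → c * v = v * c → v ∈ center G := by
    intro v hvP c hcK hc hcv
    have hPv : ∀ w ∈ (P : Subgroup G), w * v = v * w := by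
      intro w hwP
      by_contra hne
      have hQ : IsPGroup p (G ⧸ K) := IsPGroup.of_card (n := k) (by rw [← hKi, index_eq_card])
      have hnc : (QuotientGroup.mk' K v) ∉ center (G ⧸ K) := by
        intro h
        apply hne
        have h1 := mem_center_iff.1 h (QuotientGroup.mk' K w)
        rw [← map_mul, ← map_mul, QuotientGroup.mk'_eq_mk'] at h1
        obtain ⟨z, hzK, hz⟩ := h1
        have : z = 1 := hPK z (by
          rw [show z = (w * v)⁻¹ * (v * w) by rw [← hz]; group]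
          exact mul_mem (inv_mem (mul_mem hwP hvP)) (mul_mem hvP hwP)) hzK
        rw [← hz, this, mul_one]
      refine hnv c hcK hc v hvP hcv (H19.Vanishes.of_mk (N := K) ?_)
      rw [map_mul, show QuotientGroup.mk' K c = 1 from (QuotientGroup.eq_one_iff c).2 hcK, one_mul]
      exact vanishes_of_not_mem_center hQ hnc
    have hKv : ∀ a ∈ K, a * v = v * a := by
      refine centralizes_of_fixes_irr K hKp
        (by obtain ⟨m, hm⟩ := IsPGroup.iff_orderOf.1 P.isPGroup' ⟨v, hvP⟩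
            exact ⟨m, by rwa [Subgroup.orderOf_mk] at hm⟩) fun θ => ?_
      let φ : G →* MulAut K := MulAut.conjNormal
      let T : Subgroup G :=
        { carrier := {g | ∀ n : K, θ.1 (φ g n) = θ.1 n}
          one_mem' := fun n => by simp [φ]
          mul_mem' := fun {a b} ha hb n => by rw [map_mul, MulAut.mul_apply, ha, hb]
          inv_mem' := fun {a} ha n => by
            have := ha (φ a⁻¹ n)
            rw [← MulAut.mul_apply, ← map_mul, mul_inv_cancel, map_one, MulAut.one_apply] at this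
            exact this.symm }
      have hT : ∀ g : G, g ∈ T ↔ ∀ n : K, θ.1 ⟨g * n * g⁻¹, hKn.conj_mem (n : G) n.2 g⟩ = θ.1 n :=
        fun g => Iff.rfl
      have hKT : K ≤ T := by
        intro a ha n
        show θ.1 (φ a n) = θ.1 n
        rw [show φ a n = ⟨a, ha⟩ * n * (⟨a, ha⟩ : K)⁻¹ from Subtype.ext (MulAut.conjNormal_apply a n)]
        exact H26.irr_conj θ n ⟨a, ha⟩
      suffices v ∈ T from (hT v).1 this
      by_contra hvT
      refine hnv c hcK hc v hvP hcv (vanishes_of_not_mem_inertia K θ T hT hKT fun x hx => hvT ?_)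
      obtain ⟨a, haK, w, hwP, rfl⟩ := hdec x
      have e : (a * w)⁻¹ * (c * v) * (a * w) =
          (w⁻¹ * (a⁻¹ * (c * (v * a * v⁻¹))) * w) * v := by
        calc (a * w)⁻¹ * (c * v) * (a * w) = w⁻¹ * a⁻¹ * c * (v * a * v⁻¹) * (v * w) := by group
          _ = w⁻¹ * a⁻¹ * c * (v * a * v⁻¹) * (w * v) := by rw [hPv w hwP]
          _ = _ := by group
      rw [e] at hx
      have hmem : w⁻¹ * (a⁻¹ * (c * (v * a * v⁻¹))) * w ∈ K := by
        have h0 : a⁻¹ * (c * (v * a * v⁻¹)) ∈ K :=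
          mul_mem (inv_mem haK) (mul_mem hcK (hKn.conj_mem a haK v))
        simpa using hKn.conj_mem _ h0 w⁻¹
      exact (T.mul_mem_cancel_left (hKT hmem)).1 hx
    rw [mem_center_iff]
    intro g
    obtain ⟨a, ha, w, hw, rfl⟩ := hdec g
    rw [mul_assoc, hPv w hw, ← mul_assoc, hKv a ha, mul_assoc]
  -- some element of `P` is not central
  have hex : ∃ v ∈ (P : Subgroup G), v ∉ center G := by
    obtain ⟨χ, hχ⟩ : ∃ χ : Cfsg.IrrCharacter G, Cfsg.charDegree (χ : G → ℂ) ≠ 1 := by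
      by_contra h
      push Not at h
      exact hna ⟨⟨fun a b => (H26.comm_iff_forall_irr_one.2 fun χ => by
        rw [H42.irr_one_eq χ, h χ, Nat.cast_one]) a b⟩⟩
    obtain ⟨n, ρ, hρ, e⟩ := χ.2
    have := hρ
    have hd : Cfsg.charDegree (χ : G → ℂ) = Module.finrank ℂ (Fin n → ℂ) := by
      rw [Cfsg.charDegree, ← e, ρ.char_one, Complex.natCast_re, Nat.floor_natCast]
    obtain ⟨g, hg⟩ := Cfsg.Agent.S0191.result ρ
      (lt_of_le_of_ne (H25.finrank_pos_of_isIrreducible ρ) fun h => hχ (hd.trans h.symm))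
    rw [e] at hg
    obtain ⟨m, -, hm⟩ := hvan g ⟨χ, hg⟩
    obtain ⟨Q, hQ⟩ := (IsPGroup.of_card (n := m) (G := zpowers g)
      (by rw [Nat.card_zpowers, hm])).exists_le_sylow
    obtain ⟨x, hx⟩ := MulAction.exists_smul_eq G Q P
    refine ⟨x * g * x⁻¹, ?_, fun hc => not_vanishes_of_mem_center ?_ ⟨χ, hg⟩⟩
    · rw [← hx, Sylow.coe_subgroup_smul]
      exact ⟨g, hQ (mem_zpowers g), rfl⟩
    · have h1 := (inferInstance : (center G).Normal).conj_mem _ hc x⁻¹
      simpa [mul_assoc] using h1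
  obtain ⟨v₀, hv₀P, hv₀⟩ := hex
  have hfpf : ∀ c ∈ K, c * v₀ = v₀ * c → c = 1 := fun c hcK hcv =>
    by_contra fun hc => hv₀ (hcentral v₀ hv₀P c hcK hc hcv)
  obtain ⟨c₀, hc₀K, hc₀⟩ := (bot_or_exists_ne_one K).resolve_left hK1
  have hZP : center G ≤ (P : Subgroup G) := by
    intro g hg
    obtain ⟨a, ha, v, hv, rfl⟩ := hdec g
    have h0 := mem_center_iff.1 hg
    have hva : a * v = v * a := by
      have h1 := h0 a
      have : a * a * v = a * v * a := by rw [mul_assoc]; exact h1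
      rw [mul_assoc, mul_assoc] at this
      exact mul_left_cancel this
    by_cases ha1 : a = 1
    · simpa [ha1] using hv
    exfalso
    have hvc := hcentral v hv a ha ha1 hva
    have hac : a ∈ center G := by
      have := mul_mem hg (inv_mem hvc)
      simpa using this
    exact ha1 (hfpf a ha (mem_center_iff.1 hac v₀).symm)
  have hcore : center G = Cfsg.pCore p G := by
    refine le_antisymm (le_sSup ⟨inferInstance, P.isPGroup'.to_le hZP⟩) (sSup_le ?_)
    rintro N ⟨hNn, hNp⟩ y hy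
    obtain ⟨Q, hQ⟩ := hNp.exists_le_sylow
    obtain ⟨x, hx⟩ := MulAction.exists_smul_eq G Q P
    have hNP : N ≤ (P : Subgroup G) := by
      intro z hz
      rw [← hx, Sylow.coe_subgroup_smul]
      refine ⟨x⁻¹ * z * x, hQ ?_, ?_⟩
      · simpa using hNn.conj_mem z hz x⁻¹
      · show x * (x⁻¹ * z * x) * x⁻¹ = z
        group
    refine hcentral y (hNP hy) c₀ hc₀K hc₀ ?_
    have h1 : c₀ * y * c₀⁻¹ * y⁻¹ = 1 :=
      hPK _ (hNP (mul_mem (hNn.conj_mem y hy c₀) (inv_mem hy))) (by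
        rw [show c₀ * y * c₀⁻¹ * y⁻¹ = c₀ * (y * c₀⁻¹ * y⁻¹) by group]
        exact mul_mem hc₀K (hKn.conj_mem _ (inv_mem hc₀K) y))
    exact commutatorElement_eq_one_iff_mul_comm.1 (by rw [commutatorElement_def]; exact h1)
  refine ⟨hcore, (P : Subgroup G).map (QuotientGroup.mk' (center G)), ⟨?_, ?_, ?_⟩,
    P.isPGroup'.map _⟩
  · intro h
    rw [Subgroup.map_eq_bot_iff, QuotientGroup.ker_mk'] at h
    exact hv₀ (h hv₀P)
  · intro h
    have h1 := congrArg (Subgroup.comap (QuotientGroup.mk' (center G))) h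
    rw [comap_map_eq, QuotientGroup.ker_mk', comap_top, sup_eq_left.2 hZP] at h1
    exact hc₀ (hPK c₀ (h1.ge (mem_top _)) hc₀K)
  · intro q hq
    obtain ⟨x, rfl⟩ := QuotientGroup.mk'_surjective (center G) q
    obtain ⟨a, haK, w, hwP, he⟩ := hdec x⁻¹
    -- `x = w⁻¹ a⁻¹`, and `a ≠ 1`
    have hxe : x = w⁻¹ * a⁻¹ := by rw [← inv_inv x, ← he, mul_inv_rev]
    have ha1 : a ≠ 1 := by
      rintro rfl
      apply hq
      rw [hxe, inv_one, mul_one]
      exact mem_map_of_mem _ (inv_mem hwP)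
    rw [eq_bot_iff]
    rintro _ ⟨⟨u, huP, rfl⟩, h2⟩
    replace h2 : QuotientGroup.mk' (center G) u ∈ MulAut.conj (QuotientGroup.mk' (center G) x) •
      (P : Subgroup G).map (QuotientGroup.mk' (center G)) := h2
    rw [mem_pointwise_smul_iff_inv_smul_mem, MulAut.smul_def, MulAut.conj_inv_apply,
      ← map_inv, ← map_mul, ← map_mul, ← mem_comap, comap_map_eq, QuotientGroup.ker_mk',
      sup_eq_left.2 hZP] at h2
    have hu' : w * u * w⁻¹ ∈ (P : Subgroup G) := mul_mem (mul_mem hwP huP) (inv_mem hwP)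
    set u' := w * u * w⁻¹ with hu'def
    have h3 : a * u' * a⁻¹ ∈ (P : Subgroup G) := by
      have : x⁻¹ * u * x = a * u' * a⁻¹ := by rw [hu'def, hxe]; group
      rwa [this] at h2
    have h4 : a * u' * a⁻¹ * u'⁻¹ = 1 :=
      hPK _ (mul_mem h3 (inv_mem hu')) (by
        rw [show a * u' * a⁻¹ * u'⁻¹ = a * (u' * a⁻¹ * u'⁻¹) by group]
        exact mul_mem haK (hKn.conj_mem _ (inv_mem haK) u'))
    have h5 : u' ∈ center G := hcentral u' hu' a haK ha1
      (commutatorElement_eq_one_iff_mul_comm.1 (by rw [commutatorElement_def]; exact h4))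
    have h6 : u ∈ center G := by
      have := (inferInstance : (center G).Normal).conj_mem _ h5 w⁻¹
      simpa [hu'def, mul_assoc] using this
    exact mem_bot.2 ((QuotientGroup.eq_one_iff u).2 h6)

end Cfsg.Agent.H33.VanishPPower
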